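import Cfsg.Agent.Lib.ToddCox.Glue
set_option autoImplicit false
set_option maxRecDepth 100000
namespace Cfsg.Agent.Lib.ToddCox.Fi22C4
def E_0 : ℕ := 0x51400001400001450000050000051000001400001440000050000050c00001400001430000050000050800001400001420000050000041400001000001050000040000041000001000001040000040000040c00001000001030000040000031400000c00000c50000030000031000000c00000c40000030000030400000c00000c10000030000021400000800000850000020000020800000800000820000020000020400000800000810000020000010c00000400000430000010000010800000400000420000010000010400000400000410000010000001000000000000040000000000000c00000000000030000000000000800000000000020000000000000400000000000010000000000040400001400001410000040000030800001000001020000030000020c00000c00000c3000002000001100000080000084000001000000140000040000045000000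
end Cfsg.Agent.Lib.ToddCox.Fi22C4
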