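import Cfsg.Agent.Lib.ToddCox.Fi22C4.Data
set_option autoImplicit false
set_option maxRecDepth 100000
namespace Cfsg.Agent.Lib.ToddCox.Fi22C4
theorem wordsGood : allBelow (wordsOK W (relR Rb inv) inv sp) nW 5 = true := by decide +kernel
theorem d0 : allBits (fun k => bif Nat.blt k 5 then chkDef Eo inv k else true) 13 0 = true := by decide +kernel
theorem s0 : chkStream Eo inv W isH 20 5 0x400000a000001200000f000004000009800001200000e000004000009000001200000d000004000001800003c000007000004800003000000c000022000003800002c00000c000020000003800002800000c00000400000d000001400000e000009000002000007000000a000008000002000000800002c000003000002800001c0000080000180000028000018000004000000000008800000400000600000500000100000500000060000040000010000048000006000003000000000003c0000020000020000000000034000002000001000000000002c000002000000fffffffffffffffffffffffff = true := by decide +kernel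
theorem c0 : Covered Eo inv W isH 5 25 := covered_of_stream 20 5 _ s0
theorem l0 : chkPoints Eo cF (2 * nEv) N ys 6 0 0x18800001400005e00000500001680000140000560000050000048000010000052000004000013800001000004a000004000003800000c000010000005000011800000c000042000003000002800000800000c00000400000f800000c00003a000002000001800000400000800000300000d8000008000032000002000000800000000000400000200000b800000400002a0000010000098000004000000000001000008000000000001c0000000000060000000000014000000 = true := by decide +kernel
theorem k0 : LinksOK Eo cF (2 * nEv) N ys 0 6 := linksOK_of_points 6 0 _ l0
end Cfsg.Agent.Lib.ToddCox.Fi22C4
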